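import Mathlib
import Groth.Agent.AlgSpLib.LocP
import Groth.Agent.AlgSpLib.SrcDescent
import Groth.Agent.AlgSpLib.Qc

/-! Flatness and finite presentation pass to retracts. -/

set_option autoImplicit false
set_option linter.all false
set_option backward.isDefEq.respectTransparency false
set_option backward.isDefEq.respectTransparency.types false

universe u

open CategoryTheory CategoryTheory.Limits AlgebraicGeometry AlgSp AlgSpLib

namespace GerbeFlatLib

/-- A retract of a finitely presented algebra is finitely presented. -/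
theorem finitePresentation_of_retract {A B C : Type u} [CommRing A] [CommRing B] [CommRing C] [Algebra A B]
    [Algebra A C] (i : B →ₐ[A] C) (r : C →ₐ[A] B) (h : r.comp i = AlgHom.id A B)
    [Algebra.FinitePresentation A C] : Algebra.FinitePresentation A B := by
  classical
  have hri : ∀ b, r (i b) = b := fun b => AlgHom.congr_fun h b
  have hr : Function.Surjective r := fun b => ⟨i b, hri b⟩
  obtain ⟨s, hs⟩ := (inferInstance : Algebra.FiniteType A C).out
  refine Algebra.FinitePresentation.of_surjective hr ⟨s.image fun c => c - i (r c), le_antisymm ?_ ?_⟩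
  · rw [Ideal.span_le]
    intro c hc
    obtain ⟨c, -, rfl⟩ := Finset.mem_image.1 (Finset.mem_coe.1 hc)
    simp [hri]
  · intro c hc
    let I : Ideal C := Ideal.span ↑(s.image fun c => c - i (r c))
    have h1 : (Ideal.Quotient.mkₐ A I) = (Ideal.Quotient.mkₐ A I).comp (i.comp r) := by
      refine AlgHom.ext_of_adjoin_eq_top hs fun x hx => ?_
      simp only [AlgHom.comp_apply, Ideal.Quotient.mkₐ_eq_mk]
      rw [Ideal.Quotient.eq]
      exact Ideal.subset_span (Finset.mem_coe.2 (Finset.mem_image.2 ⟨x, hx, rfl⟩))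
    have h2 := AlgHom.congr_fun h1 c
    simp only [AlgHom.comp_apply, Ideal.Quotient.mkₐ_eq_mk] at h2
    rw [show r c = 0 from hc, map_zero, map_zero, Ideal.Quotient.eq_zero_iff_mem] at h2
    exact h2

/-- The same for ring maps. -/
theorem finitePresentation_hom_of_retract {A B C : Type u} [CommRing A] [CommRing B] [CommRing C]
    (f : A →+* B) (g : B →+* C) (r : C →+* B) (h : r.comp g = RingHom.id B)
    (hgf : (g.comp f).FinitePresentation) : f.FinitePresentation := by
  algebraize [f, g, g.comp f]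
  haveI : Algebra.FinitePresentation A C := hgf
  let i : B →ₐ[A] C := AlgHom.mk g (fun a => rfl)
  let r' : C →ₐ[A] B := AlgHom.mk r (fun a => RingHom.congr_fun h (f a))
  exact finitePresentation_of_retract i r' (AlgHom.ext fun b => RingHom.congr_fun h b)

theorem flat_hom_of_retract {A B C : Type u} [CommRing A] [CommRing B] [CommRing C]
    (f : A →+* B) (g : B →+* C) (r : C →+* B) (h : r.comp g = RingHom.id B)
    (hgf : (g.comp f).Flat) : f.Flat := by
  algebraize [f, g, g.comp f]
  haveI : Module.Flat A C := hgf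
  let i : B →ₐ[A] C := AlgHom.mk g (fun a => rfl)
  let r' : C →ₐ[A] B := AlgHom.mk r (fun a => RingHom.congr_fun h (f a))
  refine Module.Flat.of_retract i.toLinearMap r'.toLinearMap ?_
  ext b
  exact RingHom.congr_fun h b

section Scheme

variable {W V U : Scheme.{u}} (p : W ⟶ V) (q : V ⟶ U) (σ : V ⟶ W) (hσ : σ ≫ p = 𝟙 V)
include hσ

/-- Flatness of a composition with a retraction passes to the second map. -/
theorem flat_of_retract [Flat (p ≫ q)] : Flat q := by
  refine Flat.of_stalkMap q fun v => ?_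
  have hv : p (σ v) = v := by rw [← Scheme.Hom.comp_apply, hσ]; rfl
  have h : (q.stalkMap (p (σ v)) ≫ p.stalkMap (σ v)).hom.Flat := by
    rw [← Scheme.Hom.stalkMap_comp]; exact Flat.stalkMap (p ≫ q) (σ v)
  have key : (q.stalkMap (p (σ v))).hom.Flat := by
    haveI : IsIso ((σ ≫ p).stalkMap v) := by rw [hσ]; infer_instance
    haveI : IsIso (p.stalkMap (σ v) ≫ σ.stalkMap v) := by rw [← Scheme.Hom.stalkMap_comp]; infer_instance
    refine flat_hom_of_retract (q.stalkMap (p (σ v))).hom (p.stalkMap (σ v)).hom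
      ((σ.stalkMap v ≫ inv (p.stalkMap (σ v) ≫ σ.stalkMap v)).hom) ?_ h
    rw [← CommRingCat.hom_comp, ← Category.assoc, IsIso.hom_inv_id]
    rfl
  exact hv ▸ key

/-- Finite presentation of a composition with a retraction passes to the second map. -/
theorem lfp_of_retract [LocallyOfFinitePresentation (p ≫ q)] : LocallyOfFinitePresentation q := by
  have hQ : RingHom.StableUnderCompositionWithLocalizationAway @RingHom.FinitePresentation :=
    RingHom.finitePresentation_stableUnderComposition.stableUnderCompositionWithLocalizationAway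
      RingHom.finitePresentation_holdsForLocalizationAway
  rw [HasRingHomProperty.iff_exists_appLE (P := @LocallyOfFinitePresentation) hQ.left]
  intro v
  obtain ⟨U₀, hU₀, hvU, -⟩ := exists_isAffineOpen_mem_and_subset (X := U) (x := q v) (U := ⊤) trivial
  obtain ⟨V₀, hV₀, hvV, hV₀le⟩ := exists_isAffineOpen_mem_and_subset (X := V) (x := v) (U := q ⁻¹ᵁ U₀) hvU
  have hpv : p (σ v) = v := by rw [← Scheme.Hom.comp_apply, hσ]; rfl
  obtain ⟨W₁, hW₁, hvW, hW₁le⟩ := exists_isAffineOpen_mem_and_subset (X := W) (x := σ v) (U := p ⁻¹ᵁ V₀)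
    (show p (σ v) ∈ V₀ by rw [hpv]; exact hvV)
  have hv' : v ∈ V₀ ⊓ σ ⁻¹ᵁ W₁ := ⟨hvV, hvW⟩
  obtain ⟨r, hr, hvr⟩ := hV₀.exists_basicOpen_le (V := V₀ ⊓ σ ⁻¹ᵁ W₁) ⟨v, hv'⟩ hvV
  let r' := p.appLE V₀ W₁ hW₁le r
  have hW₂ : IsAffineOpen (W.basicOpen r') := hW₁.basicOpen r'
  have hbo : W.basicOpen r' = W₁ ⊓ p ⁻¹ᵁ (V.basicOpen r) := by
    rw [Scheme.Hom.preimage_basicOpen]
    show W.basicOpen ((p.app V₀ ≫ W.presheaf.map (homOfLE hW₁le).op) r) = _
    rw [CommRingCat.comp_apply, Scheme.basicOpen_res]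
  have e₁ : W.basicOpen r' ≤ p ⁻¹ᵁ V.basicOpen r := hbo ▸ inf_le_right
  have e₂ : V.basicOpen r ≤ σ ⁻¹ᵁ W.basicOpen r' := by
    intro x hx
    show σ x ∈ W.basicOpen r'
    rw [hbo]
    refine ⟨(hr hx).2, ?_⟩
    show p (σ x) ∈ V.basicOpen r
    rw [← Scheme.Hom.comp_apply, hσ]
    exact hx
  have e₀ : V.basicOpen r ≤ q ⁻¹ᵁ U₀ := (V.basicOpen_le r).trans hV₀le
  refine ⟨⟨U₀, hU₀⟩, ⟨V.basicOpen r, hV₀.basicOpen r⟩, hvr, e₀, ?_⟩
  refine finitePresentation_hom_of_retract (q.appLE U₀ (V.basicOpen r) e₀).hom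
    (p.appLE (V.basicOpen r) (W.basicOpen r') e₁).hom (σ.appLE (W.basicOpen r') (V.basicOpen r) e₂).hom ?_ ?_
  · rw [← CommRingCat.hom_comp, Scheme.Hom.appLE_comp_appLE]
    have key : ∀ (f : V ⟶ V), f = 𝟙 V → ∀ e, f.appLE (V.basicOpen r) (V.basicOpen r) e = 𝟙 _ := by
      rintro f rfl e
      rw [Scheme.Hom.appLE, Scheme.Hom.id_app, Category.id_comp]
      exact V.presheaf.map_id _
    rw [key _ hσ]
    rfl
  · rw [← CommRingCat.hom_comp, Scheme.Hom.appLE_comp_appLE]
    exact HasRingHomProperty.appLE (P := @LocallyOfFinitePresentation) (p ≫ q) ‹_› ⟨U₀, hU₀⟩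
      ⟨W.basicOpen r', hW₂⟩ _

end Scheme

section Space

variable {S : Scheme.{u}} (P : MorphismProperty Scheme.{u}) [EtLocProp P]

/-- The chart version of the retraction lemma, for a map from a scheme to a space. -/
theorem locP_of_retract
    (hP : ∀ {W V U : Scheme.{u}} (p : W ⟶ V) (q : V ⟶ U) (σ : V ⟶ W), σ ≫ p = 𝟙 V → P (p ≫ q) → P q)
    {H G : Sp S} {V : Over S} (hH : IsAlgSpace H) (hG : IsAlgSpace G) (p : H ⟶ (yon S).obj V)
    (q : (yon S).obj V ⟶ G) (σ : (yon S).obj V ⟶ H) (hσ : σ ≫ p = 𝟙 _) (h : LocP P (p ≫ q)) : LocP P q := by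
  obtain ⟨G₀, g, hg, hgs⟩ := hG.atlas
  obtain ⟨V₀, r, s, sq⟩ := exists_isPullback_yon q g (hG.representable_from_yon q)
  have hr : RepWith @Etale ((yon S).map r) := repWith_of_isPullback sq.flip hg
  have hrs : RepWith @Surjective ((yon S).map r) := repWith_of_isPullback sq.flip hgs
  let H₀ := pullback p ((yon S).map r)
  have hH₀ : IsAlgSpace H₀ := isAlgSpace_pullback hH (IsAlgSpace.yon_obj V₀) (IsAlgSpace.yon_obj V) _ _
  obtain ⟨W₀, c, hc, hcs⟩ := hH₀.atlas
  let σ₀ : (yon S).obj V₀ ⟶ H₀ := pullback.lift ((yon S).map r ≫ σ) (𝟙 _)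
    (by rw [Category.assoc, hσ, Category.comp_id, Category.id_comp])
  obtain ⟨V₁, w, t, sq₁⟩ := exists_isPullback_yon c σ₀ hc.rep
  have ht : RepWith @Etale ((yon S).map t) := repWith_of_isPullback sq₁ hc
  have hts : RepWith @Surjective ((yon S).map t) := repWith_of_isPullback sq₁ hcs
  obtain ⟨π, hπ⟩ := (yon S).map_surjective (c ≫ pullback.snd p ((yon S).map r))
  -- the retraction of schemes
  let W' := pullback π t
  have e : w ≫ π = 𝟙 V₁ ≫ t := (yon S).map_injective (by
    rw [Category.id_comp, Functor.map_comp, hπ, ← Category.assoc, sq₁.w, Category.assoc,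
      pullback.lift_snd, Category.comp_id])
  let σ' : V₁ ⟶ W' := pullback.lift w (𝟙 V₁) e
  have hW : RepWith @Etale ((yon S).map (pullback.fst π t)) :=
    repWith_of_isPullback ((IsPullback.of_hasPullback π t).map (yon S)).flip ht
  have h1 : P (pullback.snd π t ≫ t ≫ s).left := by
    refine h ((yon S).map (pullback.fst π t) ≫ c ≫ pullback.fst p ((yon S).map r)) g
      (pullback.snd π t ≫ t ≫ s) (repWith_comp hW (repWith_comp hc
        (repWith_of_isPullback (IsPullback.of_hasPullback p ((yon S).map r)).flip hr))) hg ?_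
    simp only [Category.assoc]
    rw [pullback.condition_assoc, ← reassoc_of% hπ, sq.w, Functor.map_comp, Functor.map_comp,
      Category.assoc, Category.assoc, ← Category.assoc ((yon S).map (pullback.fst π t)),
      ← Functor.map_comp, pullback.condition, Functor.map_comp, Category.assoc]
  have h2 : P (t ≫ s).left := hP (pullback.snd π t).left (t ≫ s).left σ'.left
    (by rw [← Over.comp_left, pullback.lift_snd, Over.id_left]) (by rw [← Over.comp_left]; exact h1)
  refine locP_of_chart (h₀ := t ≫ s) (repWith_comp ht hr) (repWith_comp hts hrs) hg ?_ h2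
  rw [Category.assoc, sq.w, Functor.map_comp, Category.assoc]

end Space

end GerbeFlatLib
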