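import Groth.Agent.GerbeFlatLib.Retract
import Groth.Agent.ResGerbeLib.Basic
import Groth.Agent.GerbeLib.Basic
import Groth.Agent.S10549
import Groth.Agent.AlgStBig.Rows5

/-! Sections of gerbes over algebraic spaces are flat and locally of finite presentation. -/

set_option autoImplicit false
set_option linter.all false
set_option backward.isDefEq.respectTransparency false
set_option backward.isDefEq.respectTransparency.types false

universe u

open CategoryTheory CategoryTheory.Limits AlgebraicGeometry Opposite AlgSp FibCat FibLib AlgSpLib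
open CategoryTheory.Functor (Fiber)
open AlgStLib AlgStBig

namespace GerbeFlatLib

variable {S : Scheme.{u}} {𝒳 : AlgSt.Cat S}

/-- The base change of a section of a gerbe has sections fppf locally. -/
theorem exists_local_lifts [IsFibGrpd 𝒳.p] {U : Sp S} {π : 𝒳 ⥤ᵇ AlgSt.ofSp U}
    (hπ : Gerb.LocSurjHom (QuotSh.J Scheme.fppfPrecoverage S) π)
    (x : AlgSt.ofSp U ⥤ᵇ 𝒳) (e : BasedFunctor.comp x π ≅ BasedFunctor.id (AlgSt.ofSp U))
    {V : Over S} (w : AlgSt.ofSch V ⥤ᵇ 𝒳) {H : Sp S} {a : H ⟶ (yon S).obj V} (ha : Along w x a.hom) :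
    ∃ (Vt : V.left → Over S) (v : ∀ t, Vt t ⟶ V), (∀ t, Flat (v t).left) ∧
      (∀ t, LocallyOfFinitePresentation (v t).left) ∧ (∀ t, t ∈ Set.range (v t).left) ∧
      ∀ t, ∃ l : (yon S).obj (Vt t) ⟶ H, l ≫ a = (yon S).map (v t) := by
  haveI : IsFibGrpd (AlgSt.ofSch V).p := Stk.isFibGrpd_ofPsh _
  haveI : IsFibGrpd (AlgSt.ofSp U).p := Stk.isFibGrpd_ofPsh _
  haveI : IsFibGrpd (fp w x).p := isFibGrpd_fp
  obtain ⟨k, hk, ⟨β⟩⟩ := ha
  let ξ : (AlgSt.ofSch V).obj := ⟨V, ⟨𝟙 V⟩⟩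
  let oU : (AlgSt.ofSp U).obj := π.obj (w.obj ξ)
  have hoU : (AlgSt.ofSp U).p.obj oU = V := (π.w_obj _).trans (w.w_obj ξ)
  haveI hb : (AlgSt.ofSp U).p.IsHomLift (𝟙 V) (appIso e oU).inv :=
    e.inv.isHomLift (a := oU) hoU
  obtain ⟨R, hR, hloc⟩ := GerbeLib.locSurjHom_at hπ (w.obj ξ) (x.obj oU) (w.w_obj ξ) (appIso e oU).inv hb
  obtain ⟨Vt, v, hv, h₁, h₂, h₃⟩ := exists_family_of_mem (U := V) hR
  refine ⟨Vt, v, h₁, h₂, h₃, fun t => ?_⟩
  obtain ⟨x₀, Φ, Ψ, hΦ, hΨ, -⟩ := hloc (v t) (hv t)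
  haveI := hΦ
  haveI := hΨ
  let m₁ : (⟨Vt t, ⟨v t⟩⟩ : (AlgSt.ofSch V).obj) ⟶ ξ := ⟨v t, congrArg ULift.up (Category.comp_id (v t))⟩
  haveI : (AlgSt.ofSch V).p.IsHomLift (v t) m₁ := IsHomLift.map _ m₁
  haveI := w.preserves_isHomLift (v t) m₁
  obtain ⟨o₂, m₂, hm₂⟩ := exists_lift (AlgSt.ofSp U).p (a := oU) hoU (v t)
  haveI := x.preserves_isHomLift (v t) m₂
  obtain ⟨i₁, hi₁, -⟩ := GerbeLib.exists_vert 𝒳.p (v t) (w.map m₁) Φ inferInstance hΦ
  obtain ⟨i₂, hi₂, -⟩ := GerbeLib.exists_vert 𝒳.p (v t) Ψ (x.map m₂) hΨ inferInstance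
  let ζ : (fp w x).obj := fpObj (F := w) (G := x) (⟨Vt t, ⟨v t⟩⟩ : (AlgSt.ofSch V).obj) o₂ (i₁ ≪≫ i₂)
    (GerbeLib.isHomLift_id_comp 𝒳.p (𝟙 (Vt t)) i₁.hom i₂.hom hi₁ hi₂)
  obtain ⟨⟨_, _⟩, hs⟩ := (isEquivOver_iff k).mp hk
  obtain ⟨o, i, -⟩ := hs ζ
  let q : (⟨Vt t, ⟨v t⟩⟩ : (AlgSt.ofSch V).obj) ⟶ (Stk.ofPshMap a.hom).obj o :=
    (FibCat.fpFst w x).map i.inv ≫ (appIso β o).hom
  refine ⟨(yon S).map q.hom ≫ yEq.symm o.sec, yEq.injective ?_⟩
  rw [Category.assoc, AlgSpLib.yEq_map, AlgSpLib.yEq_comp, Equiv.apply_symm_apply]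
  show _ = (AlgSp.J S).uliftYonedaEquiv ((yon S).map (v t))
  rw [GrothendieckTopology.uliftYonedaEquiv_uliftYoneda_map]
  exact q.map_sec

/-- A section of a gerbe over an algebraic space is flat, locally of finite presentation and surjective. -/
theorem section_props (h𝒳 : AlgSt.IsAlgStack Scheme.fppfPrecoverage 𝒳) {U : Sp S} (hU : IsAlgSpace U)
    {π : 𝒳 ⥤ᵇ AlgSt.ofSp U} (hπ : Gerb.IsGerbeOver (QuotSh.J Scheme.fppfPrecoverage S) π)
    (x : AlgSt.ofSp U ⥤ᵇ 𝒳) (e : BasedFunctor.comp x π ≅ BasedFunctor.id (AlgSt.ofSp U)) :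
    AlgSt.RepByAlgSpWith (LocP @Flat) x ∧ AlgSt.RepByAlgSpWith (LocP @LocallyOfFinitePresentation) x ∧
      AlgSt.RepByAlgSpWith IsSurjectiveMor x := by
  haveI := h𝒳.isStack.1
  haveI : IsFibGrpd (AlgSt.ofSp U).p := Stk.isFibGrpd_ofPsh _
  have hx : AlgSt.RepByAlgSp1 x :=
    repByAlgSp1_of_space (repByAlgSp_ofSp hU) (fun T y => ResGerbeLib.repByAlgSp1_overCat h𝒳 y) x
  obtain ⟨V, y, hy, hys⟩ := h𝒳.atlas
  let w := BasedFunctor.comp (AlgSt.toOverCat V) y
  have hw := repByAlgSpWith_toOverCat_comp hy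
  have hws := repByAlgSpWith_toOverCat_comp hys
  haveI : IsFibGrpd (AlgSt.ofSch V).p := Stk.isFibGrpd_ofPsh _
  have hV := IsAlgSpace.yon_obj (S := S) V
  obtain ⟨H, a, hH, ha⟩ := exists_along hx hV w
  have hlift := exists_local_lifts hπ.2 x e w ha
  obtain ⟨Vt, v, hv₁, hv₂, hv₃, hl⟩ := hlift
  choose l hl using hl
  obtain ⟨k, hk, ⟨β⟩⟩ := ha
  obtain ⟨γ⟩ := nonempty_iso_mapOf (BasedFunctor.comp k (FibCat.fpSnd w x))
  let b : H ⟶ U := ObjectProperty.homMk (mapOf (BasedFunctor.comp k (FibCat.fpSnd w x)))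
  have hb : Along x w b.hom :=
    ⟨BasedFunctor.comp k (fpSwap w x), isEquivOver_comp hk (isEquivOver_fpSwap w x), ⟨γ⟩⟩
  have hbsm := prop_of_along_space good_smooth.bc good_smooth.test hw hU hH hb
  have hbs := prop_of_along_space good_surjective.bc good_surjective.test hws hU hH hb
  let ρ : (yon S).obj V ⟶ U := ObjectProperty.homMk (mapOf (BasedFunctor.comp w π))
  have hab : a ≫ ρ = b := by
    obtain ⟨δ⟩ := nonempty_iso_mapOf (BasedFunctor.comp w π)
    have κ : BasedFunctor.comp k (FibCat.fpSnd w x) ≅ Stk.ofPshMap (a ≫ ρ).hom :=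
      (whiskerLeftIso' (BasedFunctor.comp k (FibCat.fpSnd w x)) e).symm ≪≫
        (whiskerRightIso' (whiskerLeftIso' k (fpIso w x)) π).symm ≪≫
        whiskerRightIso' (whiskerRightIso' β w) π ≪≫ whiskerLeftIso' (Stk.ofPshMap a.hom) δ
    refine ObjectProperty.hom_ext _ ?_
    show (a ≫ ρ).hom = mapOf (BasedFunctor.comp k (FibCat.fpSnd w x))
    rw [mapOf_congr κ, mapOf_ofPshMap]
  -- the self-product of the section
  obtain ⟨G, g, hG, hg⟩ := exists_along hx hU x
  let ρt : ∀ t, (yon S).obj (Vt t) ⟶ U := fun t => (yon S).map (v t) ≫ ρ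
  have hlb : ∀ t, l t ≫ b = ρt t := fun t => by rw [← hab, ← Category.assoc, hl]
  have hVt : ∀ t, IsAlgSpace ((yon S).obj (Vt t)) := fun t => IsAlgSpace.yon_obj _
  have hP : ∀ t, IsAlgSpace (pullback a ((yon S).map (v t))) := fun t => isAlgSpace_pullback hH (hVt t) hV _ _
  have hP' : ∀ t, IsAlgSpace (pullback g (ρt t)) := fun t => isAlgSpace_pullback hG (hVt t) hU _ _
  have hvfl : ∀ t, LocP @Flat ((yon S).map (v t)) := fun t => (locP_yon_map_iff _).2 (hv₁ t)
  have hvfp : ∀ t, LocP @LocallyOfFinitePresentation ((yon S).map (v t)) := fun t =>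
    (locP_yon_map_iff _).2 (hv₂ t)
  have hiso : ∀ t, ∃ i : pullback a ((yon S).map (v t)) ≅ pullback g (ρt t),
      i.hom ≫ pullback.snd g (ρt t) = pullback.snd a ((yon S).map (v t)) := fun t => by
    have κ : BasedFunctor.comp (AlgSt.ofSpMap ((yon S).map (v t))) w ≅
        BasedFunctor.comp (AlgSt.ofSpMap (ρt t)) x := by
      rw [← hl t, ← hlb t]
      exact whiskerLeftIso' (AlgSt.ofSpMap (l t))
        (whiskerRightIso' β.symm w ≪≫ whiskerLeftIso' k (fpIso w x) ≪≫ whiskerRightIso' γ x)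
    exact along_hom_unique
      ((Along.of_isPullback (f := x) (show Along w x a.hom from ⟨k, hk, ⟨β⟩⟩)
        (isPullback_sheaf (IsPullback.of_hasPullback a ((yon S).map (v t))))).congr κ (Iso.refl _))
      (Along.of_isPullback hg (isPullback_sheaf (IsPullback.of_hasPullback g (ρt t))))
  -- the composites with the retraction
  have hret : ∀ t, LocP @Flat (pullback.snd a ((yon S).map (v t)) ≫ ρt t) ∧
      LocP @LocallyOfFinitePresentation (pullback.snd a ((yon S).map (v t)) ≫ ρt t) := fun t => by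
    have e1 : pullback.snd a ((yon S).map (v t)) ≫ ρt t = pullback.fst a ((yon S).map (v t)) ≫ b := by
      rw [← hab, pullback.condition_assoc]
    rw [e1]
    exact ⟨good_flat.comp (hP t) hH hU _ _
        (good_flat.bc (hVt t) hV (hP t) hH _ a _ _ (IsPullback.of_hasPullback a ((yon S).map (v t))).flip (hvfl t))
        (locP_flat_of_smooth hbsm),
      good_lfp.comp (hP t) hH hU _ _
        (good_lfp.bc (hVt t) hV (hP t) hH _ a _ _ (IsPullback.of_hasPullback a ((yon S).map (v t))).flip (hvfp t))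
        (locP_lfp_of_smooth hbsm)⟩
  have hρt : ∀ t, LocP @Flat (ρt t) ∧ LocP @LocallyOfFinitePresentation (ρt t) := fun t => by
    let σ : (yon S).obj (Vt t) ⟶ pullback a ((yon S).map (v t)) :=
      pullback.lift (l t) (𝟙 _) (by rw [hl, Category.id_comp])
    exact ⟨locP_of_retract @Flat (fun p q σ hσ h => by haveI := h; exact flat_of_retract p q σ hσ)
        (hP t) hU _ _ σ (pullback.lift_snd _ _ _) (hret t).1,
      locP_of_retract @LocallyOfFinitePresentation (fun p q σ hσ h => by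
          haveI := h; exact lfp_of_retract p q σ hσ)
        (hP t) hU _ _ σ (pullback.lift_snd _ _ _) (hret t).2⟩
  have hcov : ∀ u : Points U, ∃ t, u ∈ Set.range (Points.map (ρt t)) := fun u => by
    obtain ⟨z, rfl⟩ := hbs u
    obtain ⟨p, hp⟩ := (Points.schemeHomeo V).surjective (Points.map a z)
    obtain ⟨q, hq⟩ := hv₃ p
    refine ⟨p, Points.schemeHomeo (Vt p) q, ?_⟩
    rw [Points.map_comp, Points.map_yon_map_apply, hq, hp, ← Points.map_comp, hab]
  -- the self-product is flat and locally of finite presentation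
  have hgP : LocP @Flat g ∧ LocP @LocallyOfFinitePresentation g := by
    have hτ : IsFppfCover (fun t => pullback g (ρt t)) (fun t => pullback.fst g (ρt t)) := by
      refine ⟨fun t => ⟨good_flat.bc (hVt t) hU (hP' t) hG _ g _ _ (IsPullback.of_hasPullback g (ρt t)).flip (hρt t).1,
        good_lfp.bc (hVt t) hU (hP' t) hG _ g _ _ (IsPullback.of_hasPullback g (ρt t)).flip (hρt t).2⟩, fun z => ?_⟩
      obtain ⟨t, s, hs⟩ := hcov (Points.map g z)
      obtain ⟨r, hr, -⟩ := exists_point_isPullback (IsPullback.of_hasPullback g (ρt t)) z s hs.symm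
      exact ⟨t, r, hr⟩
    have h1 : ∀ t, LocP @Flat (pullback.fst g (ρt t) ≫ g) ∧
        LocP @LocallyOfFinitePresentation (pullback.fst g (ρt t) ≫ g) := fun t => by
      obtain ⟨i, hi⟩ := hiso t
      have e1 : pullback.fst g (ρt t) ≫ g = i.inv ≫ pullback.snd a ((yon S).map (v t)) ≫ ρt t := by
        rw [pullback.condition, ← hi, Category.assoc, Iso.inv_hom_id_assoc]
      rw [e1]
      exact ⟨good_flat.bc.precomp_iso i.symm _ (hP t) hU (hret t).1,
        good_lfp.bc.precomp_iso i.symm _ (hP t) hU (hret t).2⟩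
    exact ⟨(isLocalOnSource_fpqc_locP_flat S _ _ hG hP' (isFpqcCover_of_isFppfCover hG hP' hτ) g hU).2 fun t => (h1 t).1,
      (Groth.Agent.S10549.result S _ _ hG hP' hτ g hU).2 fun t => (h1 t).2⟩
  -- descend to the chart
  have hτV : IsFppfCover (fun t => (yon S).obj (Vt t)) (fun t => (yon S).map (v t)) :=
    ⟨fun t => ⟨hvfl t, hvfp t⟩, fun z => by
      obtain ⟨p, rfl⟩ := (Points.schemeHomeo V).surjective z
      obtain ⟨q, hq⟩ := hv₃ p
      exact ⟨p, Points.schemeHomeo (Vt p) q, by rw [Points.map_yon_map_apply, hq]⟩⟩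
  have descend : ∀ {P : MorphismProperty (Sp S)}, StableBC P → IsLocalOnBase IsFppfCover P → P g → P a :=
    fun {P} hPb hPl hPg => (hPl _ (fun t => (yon S).map (v t)) hV hVt hτV a hH _
      (fun t => pullback.snd a ((yon S).map (v t))) (fun t => pullback.fst a ((yon S).map (v t))) hP
      (fun t => IsPullback.of_hasPullback a ((yon S).map (v t)))).mpr fun t => by
        obtain ⟨i, hi⟩ := hiso t
        rw [← hi]
        exact hPb.precomp_iso i _ (hP' t) (hVt t)
          (hPb hG hU (hP' t) (hVt t) _ _ _ _ (IsPullback.of_hasPullback g (ρt t)) hPg)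
  have hflat : IsLocalOnBase IsFppfCover (LocP @Flat : MorphismProperty (Sp S)) :=
    isLocalOnBase_fppf_of_fpqc (isLocalOnBase_fpqc_locP_of_descendsAlong S @Flat)
  have haf := descend good_flat.bc hflat hgP.1
  have hap := descend good_lfp.bc
    (isLocalOnBase_fppf_of_fpqc (isLocalOnBase_fpqc_locP_of_descendsAlong S @LocallyOfFinitePresentation)) hgP.2
  have has : IsSurjectiveMor a := fun z => by
    obtain ⟨p, rfl⟩ := (Points.schemeHomeo V).surjective z
    obtain ⟨q, hq⟩ := hv₃ p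
    exact ⟨Points.map (l p) (Points.schemeHomeo (Vt p) q), by
      rw [← Points.map_comp, hl, Points.map_yon_map_apply, hq]⟩
  have key : ∀ {P : MorphismProperty (Sp S)}, StableBC P → IsLocalOnBase IsFppfCover P → P a →
      AlgSt.RepByAlgSpWith P x := fun {P} hPb hPl hPa =>
    (repByAlgSpWith_iff_cover hPb hPl hx ⟨(yon S).obj V, hV⟩
      (repByAlgSpWith_mono (fun _ _ _ _ _ h => locP_flat_of_smooth h) hw)
      (repByAlgSpWith_mono (fun _ _ _ _ _ h => locP_lfp_of_smooth h) hw) hws).mpr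
      ⟨⟨H, hH⟩, ObjectProperty.homMk a, k, hk, ⟨β⟩, hPa⟩
  refine ⟨key good_flat.bc hflat haf, key good_lfp.bc
    (isLocalOnBase_fppf_of_fpqc (isLocalOnBase_fpqc_locP_of_descendsAlong S @LocallyOfFinitePresentation)) hap, ?_⟩
  refine (surjective_iff_repByAlgSpWith hx).1 fun p => ?_
  obtain ⟨q, rfl⟩ := surjective_of_repByAlgSpWith hws p
  obtain ⟨q, rfl⟩ := (ptsEquiv _).symm.surjective q
  obtain ⟨z, hz⟩ := has q
  refine ⟨(ptsEquiv _).symm (Points.map b z), ?_⟩
  have κ : BasedFunctor.comp (Stk.ofPshMap b.hom) x ≅ BasedFunctor.comp (Stk.ofPshMap a.hom) w :=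
    whiskerRightIso' γ.symm x ≪≫ (whiskerLeftIso' k (fpIso w x)).symm ≪≫ whiskerRightIso' β w
  have h1 := congrFun (AlgStBig.ptMap_comp b x) z
  have h2 := congrFun (AlgStBig.ptMap_comp a w) z
  simp only [Function.comp_apply] at h1 h2
  rw [hz] at h2
  show ptMap x (Points.map b z) = ptMap w q
  rw [← h1, ← h2]
  exact congrFun (AlgStBig.map_congr κ) _

end GerbeFlatLib
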