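import Groth.Prelude.Def_StGerb2
import Groth.Agent.GerbeFlatLib.Section

/-! The automorphism group scheme of a section of a gerbe is flat and locally of finite presentation. -/

set_option autoImplicit false
set_option linter.all false
set_option backward.isDefEq.respectTransparency false
set_option backward.isDefEq.respectTransparency.types false

universe u

open CategoryTheory CategoryTheory.Limits AlgebraicGeometry Opposite AlgSp FibCat FibLib AlgSpLib
open CategoryTheory.Functor (Fiber)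
open AlgStLib AlgStBig

namespace GerbeFlatLib

variable {S : Scheme.{u}} {𝒳 : AlgSt.Cat S} {U : Over S} (x : FibCat.overCat U ⥤ᵇ 𝒳)
  (G : Over U.left) [GrpObj G] (r : Gerb.AutRep x (Gerb.ptsGrp U G))

/-- The group scheme as an object over the base. -/
abbrev autOver : Over S := Over.mk (G.hom ≫ U.hom)

/-- Its structure morphism. -/
abbrev autHom : autOver G ⟶ U := Over.homMk G.hom rfl

/-- The point of `U` under a point of the group scheme. -/
abbrev autBase (a : (AlgSt.ofSch (autOver G)).obj) : (AlgSt.ofSch U).obj :=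
  ⟨a.base, ⟨a.sec.down ≫ autHom G⟩⟩

/-- The point of the group of points. -/
abbrev autPt (a : (AlgSt.ofSch (autOver G)).obj) :
    (Gerb.ptsGrp U G).obj (op ((AlgSt.toOverCat U).obj (autBase G a))) :=
  Over.homMk a.sec.down.left rfl

lemma aut_natural {T' T : Over U} (m : T' ⟶ T) (γ' : (Gerb.ptsGrp U G).obj (op T'))
    (γ : (Gerb.ptsGrp U G).obj (op T)) (h : m.left.left ≫ γ.left = γ'.left) :
    (r.iso T' γ').hom.1 ≫ x.map m = x.map m ≫ (r.iso T γ).hom.1 := by
  have e : (Gerb.ptsGrp U G).map m.op γ = γ' := Over.OverMorphism.ext h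
  rw [← e]
  exact r.natural m γ

/-- The map of points of `U` under a map of points of the group scheme. -/
abbrev autBaseMap {a b : (AlgSt.ofSch (autOver G)).obj} (f : a ⟶ b) : autBase G a ⟶ autBase G b :=
  ⟨f.hom, congrArg ULift.up
    ((Category.assoc _ _ _).symm.trans (congrArg (· ≫ autHom G) (congrArg ULift.down f.map_sec)))⟩

lemma isHomLift_id_congr {P C : Type*} [Category P] [Category C] {p : P ⥤ C} {T T' : C} (h : T = T')
    {a b : P} {φ : a ⟶ b} (hφ : p.IsHomLift (𝟙 T) φ) : p.IsHomLift (𝟙 T') φ := by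
  subst h; exact hφ

lemma pts_left {T : Over U} {γ γ' : (Gerb.ptsGrp U G).obj (op T)} (h : γ = γ') : γ.left = γ'.left :=
  h ▸ rfl

/-- The map from the group scheme to the self product of the section. -/
noncomputable def autToFp : AlgSt.ofSch (autOver G) ⥤ᵇ
    fp (BasedFunctor.comp (AlgSt.toOverCat U) x) (BasedFunctor.comp (AlgSt.toOverCat U) x) where
  toFunctor :=
    { obj := fun a => ⟨{ fst := autBase G a
                         snd := autBase G a
                         iso := Fiber.fiberInclusion.mapIso (r.iso _ (autPt G a)) },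
        isHomLift_id_congr (x.w_obj _) (r.iso _ (autPt G a)).hom.2⟩
      map := fun {a b} f => ObjectProperty.homMk
        { fst := autBaseMap G f
          snd := autBaseMap G f
          w := (aut_natural x G r ((AlgSt.toOverCat U).map (autBaseMap G f)) (autPt G a) (autPt G b)
            (congrArg CommaMorphism.left (congrArg ULift.down f.map_sec))).symm }
      map_id := fun a => ObjectProperty.hom_ext _ (CategoricalPullback.hom_ext rfl rfl)
      map_comp := fun f g => ObjectProperty.hom_ext _ (CategoricalPullback.hom_ext rfl rfl) }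
  w := rfl

lemma vert_unique [IsFibGrpd 𝒳.p] {R T : Over S} (f : R ⟶ T) {a b c : 𝒳.obj} (φ : b ⟶ c)
    [hφ : 𝒳.p.IsHomLift f φ] (i j : a ⟶ b) [𝒳.p.IsHomLift (𝟙 R) i] [𝒳.p.IsHomLift (𝟙 R) j]
    (h : i ≫ φ = j ≫ φ) : i = j := by
  haveI : 𝒳.p.IsStronglyCartesian f φ := FibLib.isStronglyCartesian_of_isFibGrpd (p := 𝒳.p) f φ
  exact Functor.IsStronglyCartesian.ext 𝒳.p f φ (𝟙 R) h

lemma isEquivOver_autToFp [IsFibGrpd 𝒳.p] {π : 𝒳 ⥤ᵇ FibCat.overCat U}
    (e : BasedFunctor.comp x π ≅ BasedFunctor.id (FibCat.overCat U)) : IsEquivOver (autToFp x G r) := by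
  haveI : (autToFp x G r).toFunctor.Faithful :=
    ⟨fun {a b} f g h => Stk.EltObj.hom_ext (congrArg (fun t => t.hom.fst.hom) h)⟩
  haveI : (autToFp x G r).toFunctor.Full := ⟨fun {a b} φ => by
    have h2 : φ.hom.snd.hom = φ.hom.fst.hom := by
      haveI := FibCat.fp_isHomLift_snd (BasedFunctor.comp (AlgSt.toOverCat U) x)
        (BasedFunctor.comp (AlgSt.toOverCat U) x) φ
      have h := IsHomLift.fac' (AlgSt.ofSch U).p ((fp (BasedFunctor.comp (AlgSt.toOverCat U) x)
        (BasedFunctor.comp (AlgSt.toOverCat U) x)).p.map φ) φ.hom.snd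
      refine h.trans ?_
      simp
    have hsnd : φ.hom.snd = φ.hom.fst := Stk.EltObj.hom_ext h2
    have hw := φ.hom.w
    rw [hsnd] at hw
    set m := (AlgSt.toOverCat U).map φ.hom.fst with hm
    have hbase : φ.hom.fst.hom ≫ b.sec.down ≫ autHom G = a.sec.down ≫ autHom G :=
      congrArg ULift.down φ.hom.fst.map_sec
    let γ' : (Gerb.ptsGrp U G).obj (op ((AlgSt.toOverCat U).obj (autBase G a))) :=
      Over.homMk (φ.hom.fst.hom.left ≫ b.sec.down.left)
        ((Category.assoc _ _ _).trans (congrArg CommaMorphism.left hbase))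
    have hn := aut_natural x G r m γ' (autPt G b) rfl
    haveI : 𝒳.p.IsHomLift φ.hom.fst.hom (x.map m) := by
      haveI : (FibCat.overCat U).p.IsHomLift φ.hom.fst.hom m := IsHomLift.map _ m
      infer_instance
    have i1 : 𝒳.p.IsHomLift (𝟙 a.base) (r.iso _ γ').hom.1 := isHomLift_id_congr (x.w_obj _) (r.iso _ γ').hom.2
    have i2 : 𝒳.p.IsHomLift (𝟙 a.base) (r.iso _ (autPt G a)).hom.1 := ((autToFp x G r).obj a).property
    have he : (r.iso _ γ').hom.1 = (r.iso _ (autPt G a)).hom.1 :=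
      @vert_unique _ _ _ a.base b.base φ.hom.fst.hom _ _ _ (x.map m) inferInstance _ _ i1 i2 (hn.trans hw)
    have hγ : γ' = autPt G a :=
      (r.iso _).injective (Iso.ext (Fiber.hom_ext he))
    have hsec : φ.hom.fst.hom ≫ b.sec.down = a.sec.down :=
      Over.OverMorphism.ext (pts_left G hγ)
    exact ⟨⟨φ.hom.fst.hom, congrArg ULift.up hsec⟩,
      ObjectProperty.hom_ext _ (CategoricalPullback.hom_ext rfl hsnd.symm)⟩⟩
  haveI : IsFibGrpd (AlgSt.ofSch U).p := Stk.isFibGrpd_ofPsh _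
  haveI : IsFibGrpd (fp (BasedFunctor.comp (AlgSt.toOverCat U) x) (BasedFunctor.comp (AlgSt.toOverCat U) x)).p :=
    isFibGrpd_fp
  refine isEquivOver_of_vertEssSurj _ fun η => ?_
  obtain ⟨⟨A, B, i⟩, hi⟩ := η
  have hAB : B = A := by
    obtain ⟨T, ⟨g⟩⟩ := A
    obtain ⟨T', ⟨g'⟩⟩ := B
    have hT : T = T' := by
      have e1 := @IsHomLift.codomain_eq _ _ _ _ 𝒳.p _ _ _ _ (𝟙 T) i.hom hi
      exact e1.symm.trans (x.w_obj _)
    subst hT
    haveI hπi : (FibCat.overCat U).p.IsHomLift (𝟙 T) (π.map i.hom) :=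
      @CategoryTheory.BasedFunctor.preserves_isHomLift _ _ _ _ π _ _ _ _ (𝟙 T) i.hom hi
    haveI h1 : (FibCat.overCat U).p.IsHomLift (𝟙 T) (appIso e (Over.mk g)).inv :=
      e.inv.isHomLift (a := (Over.mk g : (FibCat.overCat U).obj)) rfl
    haveI h2 : (FibCat.overCat U).p.IsHomLift (𝟙 T) (appIso e (Over.mk g')).hom :=
      e.hom.isHomLift (a := (Over.mk g' : (FibCat.overCat U).obj)) rfl
    let j : (Over.mk g : (FibCat.overCat U).obj) ⟶ Over.mk g' :=
      ((appIso e (Over.mk g)).inv ≫ π.map i.hom) ≫ (appIso e (Over.mk g')).hom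
    haveI h3 : (FibCat.overCat U).p.IsHomLift (𝟙 T) ((appIso e (Over.mk g)).inv ≫ π.map i.hom) :=
      GerbeLib.isHomLift_id_comp _ (𝟙 T) _ _ h1 hπi
    haveI hj : (FibCat.overCat U).p.IsHomLift (𝟙 T) j := GerbeLib.isHomLift_comp_id _ (𝟙 T) _ _ h3 h2
    have hl : j.left = 𝟙 T := (IsHomLift.fac' (FibCat.overCat U).p (𝟙 T) j).trans (by simp; rfl)
    have := Over.w j
    rw [hl] at this
    have hg : g' = g := (Category.id_comp g').symm.trans this
    rw [hg]
  subst hAB
  let fi : Fiber 𝒳.p (𝒳.p.obj (x.obj ((AlgSt.toOverCat U).obj B))) := Gerb.fib _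
  haveI hi' : 𝒳.p.IsHomLift (𝟙 (𝒳.p.obj (x.obj ((AlgSt.toOverCat U).obj B)))) i.hom :=
    isHomLift_id_congr (x.w_obj _).symm hi
  let σh : fi ⟶ fi := ⟨i.hom, hi'⟩
  haveI hinv : 𝒳.p.IsHomLift (𝟙 (𝒳.p.obj (x.obj ((AlgSt.toOverCat U).obj B)))) i.inv :=
    IsHomLift.lift_id_inv 𝒳.p _ i
  let σ : Gerb.AutO (x.obj ((AlgSt.toOverCat U).obj B)) :=
    ⟨σh, ⟨i.inv, hinv⟩, Fiber.hom_ext i.hom_inv_id, Fiber.hom_ext i.inv_hom_id⟩
  let γ := (r.iso ((AlgSt.toOverCat U).obj B)).symm σ
  let a : (AlgSt.ofSch (autOver G)).obj :=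
    ⟨B.base, ⟨Over.homMk γ.left (((Category.assoc _ _ _).symm.trans
      (congrArg (· ≫ U.hom) (Over.w γ))).trans (Over.w B.sec.down))⟩⟩
  have hb : a.sec.down ≫ autHom G = B.sec.down := Over.OverMorphism.ext (Over.w γ)
  let m : autBase G a ⟶ B := ⟨𝟙 _, congrArg ULift.up ((Category.id_comp _).trans hb.symm)⟩
  haveI : IsIso m := ⟨⟨⟨𝟙 _, congrArg ULift.up ((Category.id_comp _).trans hb)⟩,
    Stk.EltObj.hom_ext (Category.comp_id _), Stk.EltObj.hom_ext (Category.comp_id _)⟩⟩
  refine ⟨a, ObjectProperty.isoMk _ (CategoricalPullback.mkIso (asIso m) (asIso m) ?_), ?_⟩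
  · have hn := aut_natural x G r ((AlgSt.toOverCat U).map m) (autPt G a) γ (Category.id_comp _)
    have hr : r.iso ((AlgSt.toOverCat U).obj B) γ = σ := (r.iso _).apply_symm_apply σ
    rw [hr] at hn
    exact hn.symm
  · refine IsHomLift.of_fac' _ _ _ rfl rfl ?_
    simp
    rfl

/-- The automorphism group scheme of a section is flat and locally of finite presentation. -/
theorem flat_lfp_autScheme (r : Gerb.AutRep x (Gerb.ptsGrp U G)) (h𝒳 : AlgSt.IsAlgStack Scheme.fppfPrecoverage 𝒳) {π : 𝒳 ⥤ᵇ FibCat.overCat U}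
    (hπ : Gerb.IsGerbeOver (QuotSh.J Scheme.fppfPrecoverage S) π)
    (e : BasedFunctor.comp x π ≅ BasedFunctor.id (FibCat.overCat U)) :
    Flat G.hom ∧ LocallyOfFinitePresentation G.hom := by
  haveI := h𝒳.isStack.1
  haveI : IsFibGrpd (FibCat.overCat U).p := AlgStBig.isFibGrpd_overCat U
  let π' : 𝒳 ⥤ᵇ AlgSt.ofSp ((yon S).obj U) := BasedFunctor.comp π (AlgSt.ofOverCat U)
  let x' : AlgSt.ofSp ((yon S).obj U) ⥤ᵇ 𝒳 := BasedFunctor.comp (AlgSt.toOverCat U) x
  have hπ' : Gerb.IsGerbeOver (QuotSh.J Scheme.fppfPrecoverage S) π' :=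
    GerbeLib.isGerbeOver_comp hπ (GerbeLib.isGerbeOver_of_isEquivOver (isEquivOver_ofOverCat U))
  have e' : BasedFunctor.comp x' π' ≅ BasedFunctor.id (AlgSt.ofSp ((yon S).obj U)) :=
    whiskerLeftIso' (AlgSt.toOverCat U) (whiskerRightIso' e (AlgSt.ofOverCat U))
  obtain ⟨h1, h2, -⟩ := section_props h𝒳 (IsAlgSpace.yon_obj U) hπ' x' e'
  haveI : IsFibGrpd (AlgSt.ofSp ((yon S).obj U)).p := Stk.isFibGrpd_ofPsh _
  have ha : Along x' x' ((yon S).map (autHom G)).hom :=
    ⟨autToFp x G r, isEquivOver_autToFp x G r e, ⟨Iso.refl _⟩⟩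
  have hf := prop_of_along_space good_flat.bc good_flat.test h1 (IsAlgSpace.yon_obj U)
    (IsAlgSpace.yon_obj (autOver G)) ha
  have hp := prop_of_along_space good_lfp.bc good_lfp.test h2 (IsAlgSpace.yon_obj U)
    (IsAlgSpace.yon_obj (autOver G)) ha
  exact ⟨(locP_yon_map_iff (P := @Flat) (autHom G)).1 hf,
    (locP_yon_map_iff (P := @LocallyOfFinitePresentation) (autHom G)).1 hp⟩

end GerbeFlatLib
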