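import Groth.Agent.GerbeFlatLib.Diag

/-! The comparison of self-products for a gerbe. -/

set_option autoImplicit false
set_option linter.all false
set_option backward.isDefEq.respectTransparency false
set_option backward.isDefEq.respectTransparency.types false

universe u

open CategoryTheory CategoryTheory.Limits AlgebraicGeometry Opposite AlgSp FibCat FibLib AlgSpLib
open CategoryTheory.Functor (Fiber)
open AlgStLib AlgStBig

namespace GerbeFlatLib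

variable {S : Scheme.{u}} {𝒳 𝒴 𝒲 𝒲' : AlgSt.Cat S}

/-- The comparison map is a base change of the diagonal. -/
theorem repByAlgSpWith_comparison [IsFibGrpd 𝒳.p] [IsFibGrpd 𝒴.p] [IsFibGrpd 𝒲.p] [IsFibGrpd 𝒲'.p]
    (P : MorphismProperty (Sp S)) (x₁ : 𝒲 ⥤ᵇ 𝒳) (x₂ : 𝒲' ⥤ᵇ 𝒳) (f : 𝒳 ⥤ᵇ 𝒴)
    (e : BasedFunctor.comp (FibCat.fpFst x₁ x₂) (BasedFunctor.comp x₁ f) ≅
      BasedFunctor.comp (FibCat.fpSnd x₁ x₂) (BasedFunctor.comp x₂ f))
    (he : ∀ a, e.hom.toNatTrans.app a = f.map a.obj.iso.hom) (h : AlgSt.RepByAlgSpWith P (diag f)) :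
    AlgSt.RepByAlgSpWith P (fpLift (FibCat.fpFst x₁ x₂) (FibCat.fpSnd x₁ x₂) e) := by
  haveI : IsFibGrpd (fp x₁ x₂).p := isFibGrpd_fp
  haveI : IsFibGrpd (fp f f).p := isFibGrpd_fp
  haveI : IsFibGrpd (fp (BasedFunctor.comp x₁ f) (BasedFunctor.comp x₂ f)).p := isFibGrpd_fp
  haveI : IsFibGrpd (fp (fpPair x₁ x₂ f) (diag f)).p := isFibGrpd_fp
  have h1 : AlgSt.RepByAlgSpWith P
      (BasedFunctor.comp (fpMagic x₁ x₂ f) (FibCat.fpFst (fpPair x₁ x₂ f) (diag f))) :=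
    (repByAlgSpWith_square_iff (f := FibCat.fpFst (fpPair x₁ x₂ f) (diag f))
      (f' := BasedFunctor.comp (fpMagic x₁ x₂ f) (FibCat.fpFst (fpPair x₁ x₂ f) (diag f)))
      (a := fpMagic x₁ x₂ f) (b := BasedFunctor.id _) (isEquivOver_fpMagic x₁ x₂ f) (isEquivOver_id _)
      (eqToIso rfl) P).mp (AlgStBig.repByAlgSpWith_fpFst P _ h)
  refine repByAlgSpWith_congr (fpIsoExt
    (BasedFunctor.comp (fpMagic x₁ x₂ f) (FibCat.fpFst (fpPair x₁ x₂ f) (diag f)))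
    (fpLift (FibCat.fpFst x₁ x₂) (FibCat.fpSnd x₁ x₂) e) (Iso.refl _) (Iso.refl _) fun a => ?_) h1
  change f.map (x₁.map (𝟙 _)) ≫ e.hom.toNatTrans.app a = f.map a.obj.iso.hom ≫ f.map (x₂.map (𝟙 _))
  rw [he, x₁.toFunctor.map_id, x₂.toFunctor.map_id, f.toFunctor.map_id, f.toFunctor.map_id]
  exact (Category.id_comp _).trans (Category.comp_id _).symm

end GerbeFlatLib
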