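import Groth.Agent.GerbeFlatLib.Section
import Groth.Agent.AlgStSetoidLib.Basic

/-! The diagonal of a gerbe is surjective, flat and locally of finite presentation. -/

set_option autoImplicit false
set_option linter.all false
set_option backward.isDefEq.respectTransparency false
set_option backward.isDefEq.respectTransparency.types false

universe u

open CategoryTheory CategoryTheory.Limits AlgebraicGeometry Opposite AlgSp FibCat FibLib AlgSpLib
open CategoryTheory.Functor (Fiber)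
open AlgStLib AlgStBig

namespace GerbeFlatLib

variable {S : Scheme.{u}} {𝒳 𝒴 : AlgSt.Cat S}

/-- Algebraicity of the category of a space. -/
theorem isAlgStack_ofSp {U : Sp S} (hU : IsAlgSpace U) :
    AlgSt.IsAlgStack Scheme.fppfPrecoverage (AlgSt.ofSp U) :=
  (isDM_of_repByAlgSp (repByAlgSp_ofSp hU) (isStack_of_repByAlgSp (repByAlgSp_ofSp hU))).1

section Comparison

variable {f : 𝒳 ⥤ᵇ 𝒴} {T : Over S} (u : AlgSt.ofSch T ⥤ᵇ fp f f)

/-- The section of the base change given by the first object. -/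
def secFst : AlgSt.ofSch T ⥤ᵇ fp (BasedFunctor.comp (BasedFunctor.comp u (FibCat.fpFst f f)) f) f :=
  fpLift (BasedFunctor.id _) (BasedFunctor.comp u (FibCat.fpFst f f)) (Iso.refl _)

/-- The section of the base change given by the second object. -/
def secSnd : AlgSt.ofSch T ⥤ᵇ fp (BasedFunctor.comp (BasedFunctor.comp u (FibCat.fpFst f f)) f) f :=
  fpLift (BasedFunctor.id _) (BasedFunctor.comp u (FibCat.fpSnd f f)) (whiskerLeftIso' u (fpIso f f))

/-- The second component of a point of the pulled-back diagonal. -/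
def diagIso (p : (fp u (diag f)).obj) :
    (BasedFunctor.comp u (FibCat.fpSnd f f)).obj p.obj.fst ≅ (BasedFunctor.comp u (FibCat.fpFst f f)).obj p.obj.fst :=
  (FibCat.fpSnd f f).toFunctor.mapIso p.obj.iso ≪≫ ((FibCat.fpFst f f).toFunctor.mapIso p.obj.iso).symm

lemma diagIso_eq (p : (fp u (diag f)).obj) :
    f.map (diagIso u p).hom = (u.obj p.obj.fst).obj.iso.inv := by
  have h := p.obj.iso.hom.hom.w
  change f.map p.obj.iso.hom.hom.fst ≫ 𝟙 _ = (u.obj p.obj.fst).obj.iso.hom ≫ f.map p.obj.iso.hom.hom.snd at h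
  rw [Category.comp_id] at h
  show f.map (p.obj.iso.hom.hom.snd ≫ p.obj.iso.inv.hom.fst) = _
  rw [← cancel_epi (u.obj p.obj.fst).obj.iso.hom, f.toFunctor.map_comp]
  erw [← Category.assoc, ← h, ← f.toFunctor.map_comp]
  have h2 : p.obj.iso.hom.hom.fst ≫ p.obj.iso.inv.hom.fst = 𝟙 _ :=
    congrArg (fun t => t.hom.fst) p.obj.iso.hom_inv_id
  rw [h2, f.toFunctor.map_id, Iso.hom_inv_id]

/-- The points of the pulled-back diagonal as coincidences of the two sections. -/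
def diagToSecObj (p : (fp u (diag f)).obj) : (fp (secSnd u) (secFst u)).obj :=
  fpObj (F := secSnd u) (G := secFst u) p.obj.fst p.obj.fst
    (fpIsoMk (x := (secSnd u).obj p.obj.fst) (y := (secFst u).obj p.obj.fst) (Iso.refl p.obj.fst) (diagIso u p) (by
      change f.map ((BasedFunctor.comp u (FibCat.fpFst f f)).map (𝟙 _)) ≫ 𝟙 _ =
        (u.obj p.obj.fst).obj.iso.hom ≫ f.map (diagIso u p).hom
      rw [diagIso_eq, Iso.hom_inv_id]
      erw [(BasedFunctor.comp u (FibCat.fpFst f f)).toFunctor.map_id, f.toFunctor.map_id, Category.comp_id]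
      rfl))
    (by
      apply +allowSynthFailures isHomLift_of_fst
      exact IsHomLift.id rfl)

/-- The comparison functor. -/
def diagToSecFun : (fp u (diag f)).obj ⥤ (fp (secSnd u) (secFst u)).obj where
  obj := diagToSecObj u
  map {p q} k := fpHom k.hom.fst k.hom.fst (fp_hom_ext
    ((Category.comp_id k.hom.fst).trans (Category.id_comp k.hom.fst).symm) (by
      have h1 := congrArg (fun t => t.hom.fst) k.hom.w
      have h2 := congrArg (fun t => t.hom.snd) k.hom.w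
      change (u.map k.hom.fst).hom.fst ≫ q.obj.iso.hom.hom.fst = p.obj.iso.hom.hom.fst ≫ k.hom.snd at h1
      change (u.map k.hom.fst).hom.snd ≫ q.obj.iso.hom.hom.snd = p.obj.iso.hom.hom.snd ≫ k.hom.snd at h2
      have h3 : q.obj.iso.hom.hom.fst ≫ q.obj.iso.inv.hom.fst = 𝟙 _ :=
        congrArg (fun t => t.hom.fst) q.obj.iso.hom_inv_id
      have h4 : p.obj.iso.inv.hom.fst ≫ p.obj.iso.hom.hom.fst = 𝟙 _ :=
        congrArg (fun t => t.hom.fst) p.obj.iso.inv_hom_id
      show (u.map k.hom.fst).hom.snd ≫ q.obj.iso.hom.hom.snd ≫ q.obj.iso.inv.hom.fst =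
        (p.obj.iso.hom.hom.snd ≫ p.obj.iso.inv.hom.fst) ≫ (u.map k.hom.fst).hom.fst
      have h5 : (u.map k.hom.fst).hom.fst = p.obj.iso.hom.hom.fst ≫ k.hom.snd ≫ q.obj.iso.inv.hom.fst := by
        rw [← reassoc_of% h1, h3]
        exact (Category.comp_id _).symm
      rw [reassoc_of% h2, h5, Category.assoc, reassoc_of% h4]))
  map_id p := fp_hom_ext rfl rfl
  map_comp k l := fp_hom_ext rfl rfl

/-- The comparison. -/
def diagToSec : fp u (diag f) ⥤ᵇ fp (secSnd u) (secFst u) where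
  toFunctor := diagToSecFun u
  w := rfl

theorem isEquivOver_diagToSec [IsFibGrpd 𝒳.p] [IsFibGrpd 𝒴.p] : IsEquivOver (diagToSec u) := by
  haveI : IsFibGrpd (AlgSt.ofSch T).p := Stk.isFibGrpd_ofPsh _
  haveI : IsFibGrpd (fp f f).p := isFibGrpd_fp
  haveI : IsFibGrpd (fp u (diag f)).p := isFibGrpd_fp
  haveI : IsFibGrpd (fp (BasedFunctor.comp (BasedFunctor.comp u (FibCat.fpFst f f)) f) f).p := isFibGrpd_fp
  haveI : IsFibGrpd (fp (secSnd u) (secFst u)).p := isFibGrpd_fp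
  haveI : (diagToSec u).toFunctor.Faithful := ⟨fun {p q φ ψ} h => by
    have h1 : φ.hom.fst = ψ.hom.fst := congrArg (fun t => t.hom.fst) h
    refine fp_hom_ext h1 ?_
    have a := congrArg (fun t => t.hom.fst) φ.hom.w
    have b := congrArg (fun t => t.hom.fst) ψ.hom.w
    change (u.map φ.hom.fst).hom.fst ≫ q.obj.iso.hom.hom.fst = p.obj.iso.hom.hom.fst ≫ φ.hom.snd at a
    change (u.map ψ.hom.fst).hom.fst ≫ q.obj.iso.hom.hom.fst = p.obj.iso.hom.hom.fst ≫ ψ.hom.snd at b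
    have h4 : p.obj.iso.inv.hom.fst ≫ p.obj.iso.hom.hom.fst = 𝟙 _ :=
      congrArg (fun t => t.hom.fst) p.obj.iso.inv_hom_id
    rw [h1] at a
    have := congrArg (p.obj.iso.inv.hom.fst ≫ ·) (a.symm.trans b)
    simpa [reassoc_of% h4] using this⟩
  haveI : (diagToSec u).toFunctor.Full := ⟨fun {p q} k => by
    have e1 := congrArg (fun t => t.hom.fst) k.hom.w
    change k.hom.fst ≫ 𝟙 _ = 𝟙 _ ≫ k.hom.snd at e1
    rw [Category.comp_id, Category.id_comp] at e1
    have e2 := congrArg (fun t => t.hom.snd) k.hom.w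
    change (u.map k.hom.fst).hom.snd ≫ q.obj.iso.hom.hom.snd ≫ q.obj.iso.inv.hom.fst =
      (p.obj.iso.hom.hom.snd ≫ p.obj.iso.inv.hom.fst) ≫ (u.map k.hom.snd).hom.fst at e2
    rw [← e1] at e2
    let m : p.obj.snd ⟶ q.obj.snd := p.obj.iso.inv.hom.fst ≫ (u.map k.hom.fst).hom.fst ≫ q.obj.iso.hom.hom.fst
    have h3 : q.obj.iso.inv.hom.fst ≫ q.obj.iso.hom.hom.fst = 𝟙 _ :=
      congrArg (fun t => t.hom.fst) q.obj.iso.inv_hom_id
    have h5 : p.obj.iso.hom.hom.fst ≫ p.obj.iso.inv.hom.fst = 𝟙 _ :=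
      congrArg (fun t => t.hom.fst) p.obj.iso.hom_inv_id
    refine ⟨fpHom k.hom.fst m (fp_hom_ext ?_ ?_), fp_hom_ext rfl e1⟩
    · show (u.map k.hom.fst).hom.fst ≫ q.obj.iso.hom.hom.fst = p.obj.iso.hom.hom.fst ≫ m
      rw [reassoc_of% h5]
    · show (u.map k.hom.fst).hom.snd ≫ q.obj.iso.hom.hom.snd = p.obj.iso.hom.hom.snd ≫ m
      have := congrArg (· ≫ q.obj.iso.hom.hom.fst) e2
      simp only [Category.assoc] at this
      rw [h3] at this
      exact ((congrArg _ (Category.comp_id _)).symm).trans this⟩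
  refine isEquivOver_of_vertEssSurj _ fun ξ => ?_
  obtain ⟨⟨g, g', κ⟩, hκ⟩ := ξ
  let j : g ≅ g' := (FibCat.fpFst _ _).toFunctor.mapIso κ
  let d : (u.obj g).obj.snd ≅ (u.obj g).obj.fst :=
    (FibCat.fpSnd (BasedFunctor.comp (BasedFunctor.comp u (FibCat.fpFst f f)) f) f).toFunctor.mapIso κ ≪≫ ((BasedFunctor.comp u (FibCat.fpFst f f)).toFunctor.mapIso j).symm
  have hd : (u.obj g).obj.iso.hom ≫ f.map d.hom = 𝟙 _ := by
    have hw := κ.hom.hom.w
    change f.map (u.map κ.hom.hom.fst).hom.fst ≫ 𝟙 _ = (u.obj g).obj.iso.hom ≫ f.map κ.hom.hom.snd at hw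
    rw [Category.comp_id] at hw
    show (u.obj g).obj.iso.hom ≫ f.map (κ.hom.hom.snd ≫ (u.map κ.inv.hom.fst).hom.fst) = _
    rw [f.toFunctor.map_comp, ← reassoc_of% hw, ← f.toFunctor.map_comp]
    have : (u.map κ.hom.hom.fst).hom.fst ≫ (u.map κ.inv.hom.fst).hom.fst = 𝟙 _ :=
      ((BasedFunctor.comp u (FibCat.fpFst f f)).toFunctor.mapIso j).hom_inv_id
    rw [this, f.toFunctor.map_id]
    rfl
  let θ : u.obj g ≅ (diag f).obj (u.obj g).obj.fst :=
    fpIsoMk (x := u.obj g) (y := (diag f).obj (u.obj g).obj.fst) (Iso.refl _) d (by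
      change f.map (𝟙 _) ≫ 𝟙 _ = (u.obj g).obj.iso.hom ≫ f.map d.hom
      rw [hd, f.toFunctor.map_id]
      exact Category.comp_id _)
  let o : (fp u (diag f)).obj := fpObj (F := u) (G := diag f) g (u.obj g).obj.fst θ (by
    haveI : 𝒳.p.IsHomLift (𝟙 ((AlgSt.ofSch T).p.obj g)) θ.hom.hom.fst :=
      IsHomLift.id ((BasedFunctor.comp u (FibCat.fpFst f f)).w_obj g)
    exact isHomLift_of_fst (𝟙 ((AlgSt.ofSch T).p.obj g)) θ.hom)
  let J : (diagToSec u).obj o ≅ ⟨⟨g, g', κ⟩, hκ⟩ :=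
    fpIsoMk (x := (diagToSec u).obj o) (y := ⟨⟨g, g', κ⟩, hκ⟩) (Iso.refl g) j (by
      refine fp_hom_ext ?_ ?_
      · show 𝟙 g ≫ κ.hom.hom.fst = 𝟙 g ≫ κ.hom.hom.fst
        rfl
      · show (u.map (𝟙 g)).hom.snd ≫ κ.hom.hom.snd =
          ((κ.hom.hom.snd ≫ (u.map κ.inv.hom.fst).hom.fst) ≫ 𝟙 _) ≫ (u.map κ.hom.hom.fst).hom.fst
        have : (u.map κ.inv.hom.fst).hom.fst ≫ (u.map κ.hom.hom.fst).hom.fst = 𝟙 _ :=
          ((BasedFunctor.comp u (FibCat.fpFst f f)).toFunctor.mapIso j).inv_hom_id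
        erw [Category.comp_id, Category.assoc, this, Category.comp_id]
        rw [u.toFunctor.map_id]
        exact Category.id_comp _)
  refine ⟨o, J, ?_⟩
  apply +allowSynthFailures isHomLift_of_fst
  exact IsHomLift.id rfl

end Comparison

/-- The diagonal of a gerbe is representable, surjective, flat and locally of finite presentation. -/
theorem diag_props (h𝒳 : AlgSt.IsAlgStack Scheme.fppfPrecoverage 𝒳)
    (h𝒴 : AlgSt.IsAlgStack Scheme.fppfPrecoverage 𝒴) {f : 𝒳 ⥤ᵇ 𝒴}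
    (hf : Gerb.IsGerbeOver (QuotSh.J Scheme.fppfPrecoverage S) f) :
    AlgSt.RepByAlgSpWith (LocP @Flat) (diag f) ∧ AlgSt.RepByAlgSpWith (LocP @LocallyOfFinitePresentation) (diag f) ∧
      AlgSt.RepByAlgSpWith IsSurjectiveMor (diag f) := by
  haveI := h𝒳.isStack.1
  haveI := h𝒴.isStack.1
  have hrep := AlgStBig.repByAlgSp1_diag h𝒳 h𝒴 f
  have key : ∀ (T : Over S) (u : AlgSt.ofSch T ⥤ᵇ fp f f) (H : Sp S) (a : H ⟶ (yon S).obj T),
      IsAlgSpace H → Along u (diag f) a.hom →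
      LocP @Flat a ∧ LocP @LocallyOfFinitePresentation a ∧ IsSurjectiveMor a := fun T u H a hH ha => by
    haveI : IsFibGrpd (AlgSt.ofSch T).p := Stk.isFibGrpd_ofPsh _
    haveI : IsFibGrpd (fp f f).p := isFibGrpd_fp
    let y := BasedFunctor.comp (BasedFunctor.comp u (FibCat.fpFst f f)) f
    haveI : IsFibGrpd (fp y f).p := isFibGrpd_fp
    have hT := IsAlgSpace.yon_obj (S := S) T
    have h𝒳T := AlgStSetoidLib.isAlgStack_fp' (isAlgStack_ofSp hT) h𝒳 h𝒴 y f
    obtain ⟨p1, p2, p3⟩ := section_props h𝒳T hT (π := FibCat.fpFst y f)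
      (GerbeLib.isGerbeOver_fpFst (G := y) hf) (secFst u) (eqToIso rfl)
    obtain ⟨H', a', hH', ha'⟩ := exists_along (repByAlgSp1_of_with p1) hT (secSnd u)
    obtain ⟨k, hk, ⟨β⟩⟩ := ha'
    obtain ⟨Ψ, hΨ, -, ⟨ν⟩⟩ := AlgStLib.exists_inverse (isEquivOver_diagToSec u)
    have h2 : Along u (diag f) a'.hom :=
      ⟨BasedFunctor.comp k Ψ, isEquivOver_comp hk hΨ,
        ⟨(whiskerLeftIso' k (whiskerRightIso' ν (FibCat.fpFst (secSnd u) (secFst u)))) ≪≫ β⟩⟩
    have ha'' : Along (secSnd u) (secFst u) a'.hom := ⟨k, hk, ⟨β⟩⟩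
    obtain ⟨i, hi⟩ := along_hom_unique ha h2
    rw [← hi]
    exact ⟨good_flat.bc.precomp_iso i a' hH' hT (prop_of_along good_flat.bc.precomp_iso p1 ha''),
      good_lfp.bc.precomp_iso i a' hH' hT (prop_of_along good_lfp.bc.precomp_iso p2 ha''),
      good_surjective.bc.precomp_iso i a' hH' hT (prop_of_along good_surjective.bc.precomp_iso p3 ha'')⟩
  exact ⟨repByAlgSpWith_of_forall hrep fun T u H a hH ha => (key T u H a hH ha).1,
    repByAlgSpWith_of_forall hrep fun T u H a hH ha => (key T u H a hH ha).2.1,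
    repByAlgSpWith_of_forall hrep fun T u H a hH ha => (key T u H a hH ha).2.2⟩

end GerbeFlatLib
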