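import Groth.Agent.AlgStLib.LocQ4
import Groth.Agent.AlgStLib.SmST
import Groth.Agent.AlgStLib.PointsTop

/-! Passage from representable properties to smooth-local ones. -/

set_option autoImplicit false
set_option linter.all false
set_option backward.isDefEq.respectTransparency false
set_option backward.isDefEq.respectTransparency.types false

universe u

open CategoryTheory CategoryTheory.Limits AlgebraicGeometry Opposite AlgSp FibCat FibLib AlgSpLib
open AlgStLib

namespace GerbeFlatLib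

variable {S : Scheme.{u}} {𝒳 𝒴 : AlgSt.Cat S}

/-- Surjective flat lfp representable morphisms in the smooth-local sense. -/
theorem locQ_props (h𝒳 : AlgSt.IsAlgStack Scheme.fppfPrecoverage 𝒳)
    (h𝒴 : AlgSt.IsAlgStack Scheme.fppfPrecoverage 𝒴) {f : 𝒳 ⥤ᵇ 𝒴}
    (h₁ : AlgSt.RepByAlgSpWith (LocP @Flat) f) (h₂ : AlgSt.RepByAlgSpWith (LocP @LocallyOfFinitePresentation) f)
    (h₃ : AlgSt.RepByAlgSpWith IsSurjectiveMor f) :
    AlgSt.IsSurjective f ∧ AlgSt.LocQ (LocP @Flat) f ∧ AlgSt.LocQ (LocP @LocallyOfFinitePresentation) f := by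
  haveI := h𝒳.isStack.1
  haveI := h𝒴.isStack.1
  exact ⟨surjective_of_repByAlgSpWith h₃, locQ_of_repByAlgSpWith isSmoothLocalST_flat good_flat h𝒳 h𝒴 f h₁,
    locQ_of_repByAlgSpWith isSmoothLocalST_lfp good_lfp h𝒳 h𝒴 f h₂⟩

end GerbeFlatLib
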