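import Groth.Agent.GerbeFlatLib.Section
import Groth.Agent.GerbeFlatLib.Diag
import Groth.Agent.GerbeFlatLib.LocQ
import Groth.Agent.S10560

/-! Gerbes over algebraic stacks are smooth. -/

set_option autoImplicit false
set_option linter.all false
set_option backward.isDefEq.respectTransparency false
set_option backward.isDefEq.respectTransparency.types false

universe u

open CategoryTheory CategoryTheory.Limits AlgebraicGeometry Opposite AlgSp FibCat FibLib AlgSpLib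
open CategoryTheory.Functor (Fiber)
open AlgStLib

namespace GerbeFlatLib

variable {S : Scheme.{u}}

/-- An atlas of a gerbe with a section is smooth over the base. -/
theorem smooth_atlas_of_section {𝒲 : AlgSt.Cat S} (h𝒲 : AlgSt.IsAlgStack Scheme.fppfPrecoverage 𝒲) {T : Sp S}
    (hT : IsAlgSpace T) {π : 𝒲 ⥤ᵇ AlgSt.ofSp T}
    (hπ : Gerb.IsGerbeOver (QuotSh.J Scheme.fppfPrecoverage S) π) (s : AlgSt.ofSp T ⥤ᵇ 𝒲)
    (e : BasedFunctor.comp s π ≅ BasedFunctor.id (AlgSt.ofSp T)) {P : Sp S} (hP : IsAlgSpace P)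
    {c : AlgSt.ofSp P ⥤ᵇ 𝒲} (hc : AlgSt.RepByAlgSpWith (LocP @Smooth) c)
    (hcs : AlgSt.RepByAlgSpWith IsSurjectiveMor c) {q : P ⟶ T}
    (α : BasedFunctor.comp c π ≅ Stk.ofPshMap q.hom) : LocP @Smooth q := by
  haveI := h𝒲.isStack.1
  haveI : IsFibGrpd (AlgSt.ofSp T).p := Stk.isFibGrpd_ofPsh _
  haveI : IsFibGrpd (AlgSt.ofSp P).p := Stk.isFibGrpd_ofPsh _
  obtain ⟨s₁, s₂, s₃⟩ := section_props h𝒲 hT hπ s e
  obtain ⟨K, b, hK, hb, hbsm⟩ := AlgStLib.exists_along_test good_smooth.bc good_smooth.test hc hT s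
  obtain ⟨k, hk, ⟨β⟩⟩ := hb
  obtain ⟨γ⟩ := nonempty_iso_mapOf (BasedFunctor.comp k (FibCat.fpSnd s c))
  let l : K ⟶ P := ObjectProperty.homMk (mapOf (BasedFunctor.comp k (FibCat.fpSnd s c)))
  have hl : Along c s l.hom :=
    ⟨BasedFunctor.comp k (fpSwap s c), isEquivOver_comp hk (isEquivOver_fpSwap s c), ⟨γ⟩⟩
  have hlf := AlgStLib.prop_of_along_space good_flat.bc good_flat.test s₁ hP hK hl
  have hlp := AlgStLib.prop_of_along_space good_lfp.bc good_lfp.test s₂ hP hK hl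
  have hls := AlgStLib.prop_of_along_space good_surjective.bc good_surjective.test s₃ hP hK hl
  have he : l ≫ q = b := by
    refine ObjectProperty.hom_ext _ ?_
    show mapOf (BasedFunctor.comp k (FibCat.fpSnd s c)) ≫ q.hom = b.hom
    rw [← mapOf_ofPshMap b.hom, ← mapOf_ofPshMap (mapOf (BasedFunctor.comp k (FibCat.fpSnd s c)) ≫ q.hom)]
    refine mapOf_congr ?_
    exact (show Stk.ofPshMap (mapOf (BasedFunctor.comp k (FibCat.fpSnd s c)) ≫ q.hom) ≅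
        BasedFunctor.comp (Stk.ofPshMap (mapOf (BasedFunctor.comp k (FibCat.fpSnd s c)))) (Stk.ofPshMap q.hom)
      from Iso.refl _) ≪≫ whiskerLeftIso' (Stk.ofPshMap (mapOf (BasedFunctor.comp k (FibCat.fpSnd s c)))) α.symm ≪≫
      whiskerRightIso' (whiskerRightIso' γ.symm c ≪≫ (whiskerLeftIso' k (fpIso s c)).symm ≪≫
        whiskerRightIso' β s) π ≪≫ whiskerLeftIso' (Stk.ofPshMap b.hom) e
  exact (Groth.Agent.S10560.result (S := S) (X := ⟨K, hK⟩) (Y := ⟨P, hP⟩) (B := ⟨T, hT⟩)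
    (ObjectProperty.homMk l) (ObjectProperty.homMk q) hls hlf hlp).1 (by show LocP @Smooth (l ≫ q); rw [he]; exact hbsm)

/-- An atlas of a gerbe is smooth over the base. -/
theorem smooth_atlas {𝒲 : AlgSt.Cat S} (h𝒲 : AlgSt.IsAlgStack Scheme.fppfPrecoverage 𝒲) {V : Over S}
    {π : 𝒲 ⥤ᵇ FibCat.overCat V} (hπ : Gerb.IsGerbeOver (QuotSh.J Scheme.fppfPrecoverage S) π) {U : Over S}
    {d : FibCat.overCat U ⥤ᵇ 𝒲} (hd : AlgSt.RepByAlgSpWith (LocP @Smooth) d)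
    (hds : AlgSt.RepByAlgSpWith IsSurjectiveMor d) {h : U ⟶ V}
    (α : BasedFunctor.comp d π ≅ AlgSt.overMap h) : LocP @Smooth ((yon S).map h) := by
  haveI := h𝒲.isStack.1
  haveI := AlgStLib.isFibGrpd_overCat V
  haveI := AlgStLib.isFibGrpd_overCat U
  haveI : IsFibGrpd (AlgSt.ofSch V).p := Stk.isFibGrpd_ofPsh _
  haveI : IsFibGrpd (AlgSt.ofSch U).p := Stk.isFibGrpd_ofPsh _
  have hV := IsAlgSpace.yon_obj (S := S) V
  have hU := IsAlgSpace.yon_obj (S := S) U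
  let π' : 𝒲 ⥤ᵇ AlgSt.ofSp ((yon S).obj V) := BasedFunctor.comp π (AlgSt.ofOverCat V)
  have hπ' : Gerb.IsGerbeOver (QuotSh.J Scheme.fppfPrecoverage S) π' :=
    GerbeLib.isGerbeOver_comp hπ (GerbeLib.isGerbeOver_of_isEquivOver (AlgStLib.isEquivOver_ofOverCat V))
  -- sections fppf locally on the base
  obtain ⟨R, hR, hloc⟩ := GerbeLib.locSurjObj_at hπ.1 (Over.mk (𝟙 V)) (U := V) rfl
  obtain ⟨Vt, v, hv, hv₁, hv₂, hv₃⟩ := exists_family_of_mem (U := V) hR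
  have hsec : ∀ t, ∃ s : AlgSt.ofSch (Vt t) ⥤ᵇ 𝒲,
      Nonempty (BasedFunctor.comp s π' ≅ AlgSt.ofSpMap ((yon S).map (v t))) := fun t => by
    obtain ⟨w, g, hg⟩ := hloc (v t) (hv t)
    have hw : 𝒲.p.obj w = Vt t :=
      (π.w_obj w).symm.trans (@IsHomLift.domain_eq _ _ _ _ (FibCat.overCat V).p _ _ _ _ (v t) g hg)
    let wb : 𝒲.p.Fiber (Vt t) := Fiber.mk hw
    obtain ⟨κ⟩ := nonempty_evalAtId_ofPoint_iso wb
    obtain ⟨h', ⟨ι⟩⟩ := exists_iso_overMap (BasedFunctor.comp (ofPoint wb) π)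
    let i₁ := appIso ι (Over.mk (𝟙 (Vt t)))
    haveI h1 : (FibCat.overCat V).p.IsHomLift (𝟙 (Vt t)) i₁.inv :=
      ι.inv.isHomLift (a := (Over.mk (𝟙 (Vt t)) : (FibCat.overCat (Vt t)).obj)) rfl
    haveI h2 : (FibCat.overCat V).p.IsHomLift (𝟙 (Vt t)) (π.map κ.hom.1) :=
      @CategoryTheory.BasedFunctor.preserves_isHomLift _ _ _ _ π _ _ _ _ (𝟙 (Vt t)) κ.hom.1 κ.hom.2
    let m := (i₁.inv ≫ π.map κ.hom.1) ≫ g
    haveI h3 : (FibCat.overCat V).p.IsHomLift (𝟙 (Vt t)) (i₁.inv ≫ π.map κ.hom.1) :=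
      GerbeLib.isHomLift_id_comp _ (𝟙 (Vt t)) _ _ h1 h2
    haveI hm : (FibCat.overCat V).p.IsHomLift (v t) m := GerbeLib.isHomLift_id_comp _ (v t) _ _ h3 hg
    have hl : m.left = v t := (IsHomLift.fac' (FibCat.overCat V).p (v t) m).trans (by simp)
    have := Over.w m
    rw [hl] at this
    have hh : h' = v t := by simpa using this.symm
    subst hh
    exact ⟨BasedFunctor.comp (AlgSt.toOverCat (Vt t)) (ofPoint wb),
      ⟨whiskerLeftIso' (AlgSt.toOverCat (Vt t)) (whiskerRightIso' ι (AlgSt.ofOverCat V))⟩⟩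
  choose s hs using hsec
  let d' := BasedFunctor.comp (AlgSt.toOverCat U) d
  have hα : BasedFunctor.comp d' π' ≅ Stk.ofPshMap ((yon S).map h).hom :=
    whiskerLeftIso' (AlgSt.toOverCat U) (whiskerRightIso' α (AlgSt.ofOverCat V))
  have hsnd : ∀ t, LocP @Smooth (pullback.snd ((yon S).map h) ((yon S).map (v t))) := fun t => by
    obtain ⟨ε⟩ := hs t
    have hVt := IsAlgSpace.yon_obj (S := S) (Vt t)
    haveI : IsFibGrpd (AlgSt.ofSp ((yon S).obj (Vt t))).p := Stk.isFibGrpd_ofPsh _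
    let p := AlgSt.ofSpMap ((yon S).map (v t))
    haveI : IsFibGrpd (fp p π').p := isFibGrpd_fp
    haveI : IsFibGrpd (fp p (BasedFunctor.comp d' π')).p := isFibGrpd_fp
    have h𝒲t := AlgStSetoidLib.isAlgStack_fp' (isAlgStack_ofSp hVt) h𝒲 (isAlgStack_ofSp hV) p π'
    have hPt := isAlgSpace_pullback hU hVt hV ((yon S).map h) ((yon S).map (v t))
    obtain ⟨k, hk, ⟨β⟩⟩ := (along_ofPshMap (isPullback_sheaf
      (IsPullback.of_hasPullback ((yon S).map h) ((yon S).map (v t))))).congr (Iso.refl p) hα.symm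
    refine smooth_atlas_of_section h𝒲t hVt (π := FibCat.fpFst p π') (GerbeLib.isGerbeOver_fpFst hπ')
      (fpLift (BasedFunctor.id _) (s t) ε.symm) (eqToIso rfl) hPt
      (c := BasedFunctor.comp k (pairRight d' p π')) ?_ ?_ β
    · exact AlgStLib.repByAlgSpWith_comp' good_smooth
        (repByAlgSpWith_of_isEquivOver good_smooth.bc hPt (AlgStLib.locP_smooth_id _) hk)
        (repByAlgSpWith_pairRight d' p π' (AlgStLib.repByAlgSpWith_toOverCat_comp hd))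
    · exact AlgStLib.repByAlgSpWith_comp' good_surjective
        (repByAlgSpWith_of_isEquivOver good_surjective.bc hPt (isSurjectiveMor_of_isIso _) hk)
        (repByAlgSpWith_pairRight d' p π' (AlgStLib.repByAlgSpWith_toOverCat_comp hds))
  have hτV : IsFppfCover (fun t => (yon S).obj (Vt t)) (fun t => (yon S).map (v t)) :=
    ⟨fun t => ⟨(locP_yon_map_iff _).2 (hv₁ t), (locP_yon_map_iff _).2 (hv₂ t)⟩, fun z => by
      obtain ⟨p, rfl⟩ := (Points.schemeHomeo V).surjective z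
      obtain ⟨q, hq⟩ := hv₃ p
      exact ⟨p, Points.schemeHomeo (Vt p) q, by rw [Points.map_yon_map_apply, hq]⟩⟩
  have hloc' : IsLocalOnBase IsFppfCover (LocP @Smooth : MorphismProperty (Sp S)) :=
    isLocalOnBase_fppf_of_fpqc (isLocalOnBase_fpqc_locP_of_descendsAlong S @Smooth)
  exact (hloc' _ (fun t => (yon S).map (v t)) hV (fun t => IsAlgSpace.yon_obj _) hτV ((yon S).map h) hU _
    (fun t => pullback.snd ((yon S).map h) ((yon S).map (v t)))
    (fun t => pullback.fst ((yon S).map h) ((yon S).map (v t)))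
    (fun t => isAlgSpace_pullback hU (IsAlgSpace.yon_obj _) hV _ _)
    (fun t => IsPullback.of_hasPullback ((yon S).map h) ((yon S).map (v t)))).mpr hsnd

/-- A gerbe is surjective on points. -/
theorem isSurjective_of_locSurjObj {𝒳 𝒴 : AlgSt.Cat S} [IsFibGrpd 𝒴.p] (f : 𝒳 ⥤ᵇ 𝒴)
    (hf : Gerb.LocSurjObj (QuotSh.J Scheme.fppfPrecoverage S) f) : AlgSt.IsSurjective f := by
  intro z
  obtain ⟨r, rfl⟩ := AlgSt.Points.mk_surjective z
  obtain ⟨R, hR, hloc⟩ := GerbeLib.locSurjObj_at hf r.obj r.lies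
  obtain ⟨Vt, v, hv, -, -, hv₃⟩ := exists_family_of_mem (U := Over.mk r.str) hR
  let t₀ : (Over.mk r.str).left := (show Spec (CommRingCat.of r.K) from default)
  obtain ⟨q, -⟩ := hv₃ t₀
  let w : Over.mk ((Vt t₀).left.fromSpecResidueField q ≫ (Vt t₀).hom) ⟶ Vt t₀ :=
    Over.homMk ((Vt t₀).left.fromSpecResidueField q) rfl
  obtain ⟨o, g, hg⟩ := hloc (w ≫ v t₀) (R.downward_closed (hv t₀) w)
  have ho : 𝒳.p.obj o = Over.mk ((Vt t₀).left.fromSpecResidueField q ≫ (Vt t₀).hom) :=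
    (f.w_obj o).symm.trans (@IsHomLift.domain_eq _ _ _ _ 𝒴.p _ _ _ _ (w ≫ v t₀) g hg)
  let r' : AlgSt.FPt 𝒳 := { K := (Vt t₀).left.residueField q, str := _, obj := o, lies := ho }
  exact ⟨AlgSt.Points.mk r', AlgSt.Points.sound ⟨r'.map f, 𝟙 _, g, trivial⟩⟩

/-- A gerbe over an algebraic stack is smooth. -/
theorem locQ_smooth_of_isGerbeOver {𝒳 𝒴 : AlgSt.Cat S} (h𝒳 : AlgSt.IsAlgStack Scheme.fppfPrecoverage 𝒳)
    (h𝒴 : AlgSt.IsAlgStack Scheme.fppfPrecoverage 𝒴) {f : 𝒳 ⥤ᵇ 𝒴}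
    (hf : Gerb.IsGerbeOver (QuotSh.J Scheme.fppfPrecoverage S) f) : AlgSt.LocQ (LocP @Smooth) f := by
  haveI := h𝒳.isStack.1
  haveI := h𝒴.isStack.1
  obtain ⟨V, y, hy, hys⟩ := h𝒴.atlas
  obtain ⟨U, d, h, ⟨β⟩, hd, hds, hx, hxs⟩ := exists_chartOver h𝒳 h𝒴 f y hy
  refine ⟨U, V, _, y, h, fpSq d β, hx, hxs hys, hy, ?_⟩
  haveI := AlgStLib.isFibGrpd_overCat V
  haveI : IsFibGrpd (fp f y).p := isFibGrpd_fp
  haveI : IsFibGrpd (fp y f).p := isFibGrpd_fp
  exact smooth_atlas (π := BasedFunctor.comp (fpSwap f y) (FibCat.fpFst y f))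
    (AlgStLib.isAlgStack_fp' h𝒳 (isAlgStack_overCat V) h𝒴 f y)
    (GerbeLib.isGerbeOver_comp (GerbeLib.isGerbeOver_of_isEquivOver (AlgStLib.isEquivOver_fpSwap f y))
      (GerbeLib.isGerbeOver_fpFst (G := y) hf)) hd hds β

end GerbeFlatLib
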